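import Cfsg.Agent.H583.D4.Par
import Cfsg.Agent.H561.D4.Base

/-!
# BOX D1 of S4311 (helper583, task 5645)
-/

set_option autoImplicit false

namespace Cfsg.Agent.H583.D4

universe u

theorem boxD1 {T : Type u} [Group T] [Finite T]
    (e : T ≃* Cfsg.POmega (ZMod 2) (Cfsg.quadFormPlus 4 (ZMod 2))) : Cfsg.Agent.H561.D4.BoxD1 T :=
  exists_par_congr e (exists_par 2 (by norm_num))

end Cfsg.Agent.H583.D4
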